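import Cfsg.Agent.H670.Palfy.Defs
import Cfsg.Agent.H670.PSolv
import Cfsg.Agent.H681.DegBasic
import Cfsg.Agent.FastGrp
import Cfsg.Agent.Prune
set_option linter.all false
prune_inst 0x7f00000000000000000000000000000000000000000000000000000000000000000000000000000000000000000000000000000000000000000000000000000000000000000000000000000000000000003fffffffffffffffffffffffffffbeffbdffffffff
open scoped Cfsg.Agent.FastGrp

/-!
# Modules in which each vector is fixed by exactly one Sylow subgroup (helper670)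
-/

set_option autoImplicit false
set_option linter.unusedSectionVars false
set_option linter.style.haveILetI false

namespace Cfsg.Agent.H670.Palfy

open Subgroup

universe u v w

/-! ### Ito-Michler for solvable groups -/

theorem im_solvable {T : Type u} [Group T] [Finite T] (hT : Group.IsSolvable T) {z : ℕ}
    [hz : Fact z.Prime] (h : ∀ e ∈ Cfsg.charDegrees T, ¬ z ∣ e) (Q : Sylow z T) :
    (Q : Subgroup T).Normal ∧ ∀ a ∈ (Q : Subgroup T), ∀ b ∈ (Q : Subgroup T), a * b = b * a := by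
  have h1 := PSing.IM_of_pSolvable (Lib.PSolvable.IsPSolvable_of_solvable (G := T) z)
  exact h1 (fun χ hχ hd => h _ ⟨⟨χ, hχ⟩, rfl⟩ hd) Q

section

variable {H : Type u} {V : Type v} [Group H] [AddCommGroup V] [DistribMulAction H V]

theorem fix_iff {Q : Subgroup H} {v : V} :
    (∀ x ∈ Q, x • v = v) ↔ Q ≤ MulAction.stabilizer H v := Iff.rfl

theorem mem_smul_sylow {z : ℕ} {Q : Sylow z H} {g x : H} :
    x ∈ ((g • Q : Sylow z H) : Subgroup H) ↔ g⁻¹ * x * g ∈ (Q : Subgroup H) := by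
  rw [Sylow.coe_subgroup_smul, Subgroup.mem_pointwise_smul_iff_inv_smul_mem, MulAut.smul_def,
    ← map_inv, MulAut.conj_apply, inv_inv]

theorem fix_conj {z : ℕ} {Q : Sylow z H} {v : V} (h : ∀ x ∈ (Q : Subgroup H), x • v = v) (g : H) :
    ∀ x ∈ ((g • Q : Sylow z H) : Subgroup H), x • (g • v) = g • v := by
  intro x hx
  have h1 := h _ (mem_smul_sylow.1 hx)
  rw [mul_smul, mul_smul, inv_smul_eq_iff] at h1
  exact h1

theorem UF.mono {s : ℕ} {N N' : AddSubgroup V} (h : UF s H N) (hN : N ≤ N') : UF s H N' :=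
  fun v hv => h v (fun h' => hv (hN h'))

/-- If one Sylow subgroup acts trivially, all do. -/
theorem triv_conj [Finite H] {z : ℕ} [Fact z.Prime] {Q : Sylow z H} (h : Triv V (Q : Subgroup H))
    (Q' : Sylow z H) : Triv V (Q' : Subgroup H) := by
  obtain ⟨g, rfl⟩ := MulAction.exists_smul_eq H Q Q'
  intro x hx v
  have h1 := h _ (mem_smul_sylow.1 hx) (g⁻¹ • v)
  rw [mul_smul, mul_smul, smul_inv_smul, inv_smul_eq_iff, smul_inv_smul] at h1
  exact h1

/-- A Sylow subgroup acting trivially is normal. -/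
theorem UF.normal_of_triv [Finite H] {z : ℕ} [Fact z.Prime] {N : AddSubgroup V} (h : UF z H N)
    (hN : N ≠ ⊤) {Q : Sylow z H} (hQ : Triv V (Q : Subgroup H)) : (Q : Subgroup H).Normal := by
  obtain ⟨v, hv⟩ : ∃ v, v ∉ N := by
    by_contra hcon
    push Not at hcon
    exact hN ((AddSubgroup.eq_top_iff' N).2 hcon)
  obtain ⟨Q0, -, hu⟩ := h v hv
  have hall : ∀ Q' : Sylow z H, Q' = Q := fun Q' =>
    (hu Q' (fun x hx => triv_conj hQ Q' x hx v)).trans (hu Q (fun x hx => hQ x hx v)).symm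
  have : Subsingleton (Sylow z H) := ⟨fun a b => (hall a).trans (hall b).symm⟩
  exact Sylow.normal_of_subsingleton Q

/-- A Sylow subgroup of a subgroup of index prime to `z` is a Sylow subgroup. -/
theorem map_sylow [Finite H] {z : ℕ} [hz : Fact z.Prime] (T : Subgroup H) (hT : ¬ z ∣ T.index)
    (Q0 : Sylow z T) : ∃ Q : Sylow z H, (Q0 : Subgroup T).map T.subtype = (Q : Subgroup H) := by
  have hQ0 : IsPGroup z ((Q0 : Subgroup T).map T.subtype) := Q0.isPGroup'.map _
  obtain ⟨Q, hQ⟩ := hQ0.exists_le_sylow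
  refine ⟨Q, Subgroup.eq_of_le_of_card_ge hQ (le_of_eq ?_)⟩
  rw [Nat.card_congr ((Q0 : Subgroup T).equivMapOfInjective T.subtype
    T.subtype_injective).toEquiv.symm]
  have e1 := Q.card_eq_multiplicity
  have e2 := Q0.card_eq_multiplicity
  rw [e1, e2, ← T.card_mul_index, Nat.factorization_mul Nat.card_pos.ne'
    Subgroup.index_ne_zero_of_finite, Finsupp.add_apply,
    Nat.factorization_eq_zero_of_not_dvd hT, add_zero]

theorem exists_sylow_le [Finite H] {z : ℕ} [hz : Fact z.Prime] (T : Subgroup H)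
    (hT : ¬ z ∣ T.index) : ∃ Q : Sylow z H, (Q : Subgroup H) ≤ T := by
  obtain ⟨Q0⟩ : Nonempty (Sylow z T) := inferInstance
  obtain ⟨Q, hQ⟩ := map_sylow T hT Q0
  exact ⟨Q, hQ ▸ Subgroup.map_subtype_le _⟩

/-- A normal Sylow subgroup is contained in each subgroup of index prime to `z`. -/
theorem le_of_not_dvd [Finite H] {z : ℕ} [hz : Fact z.Prime] (Z : Sylow z H)
    (hZ : (Z : Subgroup H).Normal) (T : Subgroup H) (hT : ¬ z ∣ T.index) : (Z : Subgroup H) ≤ T := by
  obtain ⟨Q, hQ⟩ := exists_sylow_le (z := z) T hT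
  have : Subsingleton (Sylow z H) := (Sylow.unique_of_normal Z hZ).instSubsingleton
  rwa [Subsingleton.elim Z Q]

/-- Uniqueness of fixing Sylow subgroups from the stabilizers. -/
theorem uf_of_stab [Finite H] {z : ℕ} [hz : Fact z.Prime] {N : AddSubgroup V}
    (h : ∀ v : V, v ∉ N → ¬ z ∣ (MulAction.stabilizer H v).index ∧
      ∀ Q : Sylow z (MulAction.stabilizer H v), (Q : Subgroup (MulAction.stabilizer H v)).Normal) :
    UF z H N := by
  intro v hv
  obtain ⟨h1, h2⟩ := h v hv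
  set T := MulAction.stabilizer H v with hT
  obtain ⟨Q0⟩ : Nonempty (Sylow z T) := inferInstance
  obtain ⟨Q, hQeq⟩ := map_sylow T h1 Q0
  refine ⟨Q, ?_, ?_⟩
  · intro x hx
    rw [← hQeq] at hx
    obtain ⟨y, -, rfl⟩ := hx
    exact y.2
  · intro Q' hQ'
    have hle : (Q' : Subgroup H) ≤ T := hQ'
    have : Subsingleton (Sylow z T) := (Sylow.unique_of_normal Q0 (h2 Q0)).instSubsingleton
    have h4 : Q'.subtype hle = Q0 := Subsingleton.elim _ _
    apply Sylow.ext
    rw [← hQeq, ← h4, Sylow.coe_subtype, Subgroup.map_subgroupOf_eq_of_le hle]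

/-- Commutativity of the Sylow subgroups from one stabilizer. -/
theorem comm_of_stab [Finite H] {z : ℕ} [hz : Fact z.Prime] (T : Subgroup H) (hT : ¬ z ∣ T.index)
    (h : ∀ Q : Sylow z T, ∀ a ∈ (Q : Subgroup T), ∀ b ∈ (Q : Subgroup T), a * b = b * a)
    (Q : Sylow z H) : ∀ a ∈ (Q : Subgroup H), ∀ b ∈ (Q : Subgroup H), a * b = b * a := by
  obtain ⟨Q0⟩ : Nonempty (Sylow z T) := inferInstance
  obtain ⟨Q1, hQ1⟩ := map_sylow T hT Q0
  obtain ⟨g, rfl⟩ := MulAction.exists_smul_eq H Q1 Q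
  have h1 : ∀ a ∈ (Q1 : Subgroup H), ∀ b ∈ (Q1 : Subgroup H), a * b = b * a := by
    intro a ha b hb
    rw [← hQ1] at ha hb
    obtain ⟨a, ha, rfl⟩ := ha
    obtain ⟨b, hb, rfl⟩ := hb
    exact congrArg T.subtype (h Q0 a ha b hb)
  intro a ha b hb
  have h2 := h1 _ (mem_smul_sylow.1 ha) _ (mem_smul_sylow.1 hb)
  have h3 : g⁻¹ * (a * b) * g = g⁻¹ * (b * a) * g := by
    calc g⁻¹ * (a * b) * g = g⁻¹ * a * g * (g⁻¹ * b * g) := by group
      _ = g⁻¹ * b * g * (g⁻¹ * a * g) := h2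
      _ = g⁻¹ * (b * a) * g := by group
  exact mul_left_cancel (mul_right_cancel h3)

/-- The consequence of a configuration for a prime `z` not adjacent to `k`. -/
theorem stab_of_cfg [Finite H] (hH : Group.IsSolvable H) {D : Set ℕ} {k : ℕ} (hc : Cfg D H V k)
    {z : ℕ} [hz : Fact z.Prime] (y : ℕ) (hD : ∀ e ∈ D, k ∣ e → y ∣ e → z ∣ e → False) {v : V} (hv : v ≠ 0)
    (hy : y ∣ (MulAction.stabilizer H v).index) :
    ¬ z ∣ (MulAction.stabilizer H v).index ∧
      ∀ Q : Sylow z (MulAction.stabilizer H v), (Q : Subgroup (MulAction.stabilizer H v)).Normal ∧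
        ∀ a ∈ (Q : Subgroup (MulAction.stabilizer H v)),
          ∀ b ∈ (Q : Subgroup (MulAction.stabilizer H v)), a * b = b * a := by
  have h1 : ∀ d ∈ Cfsg.charDegrees (MulAction.stabilizer H v),
      ¬ z ∣ (MulAction.stabilizer H v).index * d := by
    intro d hd hzd
    obtain ⟨e, he, h1, h2⟩ := hc v hv d hd
    exact hD e he h2 ((Dvd.dvd.mul_right hy d).trans h1) (hzd.trans h1)
  have hs : Group.IsSolvable (MulAction.stabilizer H v) :=
    (inferInstance : Group.IsSolvable (MulAction.stabilizer H v))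
  refine ⟨fun h => h1 1 H681.DegBasic.one_mem (Dvd.dvd.mul_right h 1), fun Q => ?_⟩
  exact im_solvable hs (fun d hd hzd => h1 d hd (Dvd.dvd.mul_left hzd _)) Q

/-- The case of a normal Sylow `y`-subgroup, `y` not adjacent to `z`. -/
theorem uf_of_cfg_fixed [Finite H] (hH : Group.IsSolvable H) {D : Set ℕ} {k : ℕ} (hc : Cfg D H V k)
    {z y : ℕ} [hz : Fact z.Prime] [hy : Fact y.Prime] (hD : ∀ e ∈ D, k ∣ e → y ∣ e → z ∣ e → False)
    (Y : Sylow y H) (hY : (Y : Subgroup H).Normal) :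
    UF z H (fixed V (Y : Subgroup H)) ∧ ((∃ v : V, v ∉ fixed V (Y : Subgroup H)) →
      ∀ Q : Sylow z H, ∀ a ∈ (Q : Subgroup H), ∀ b ∈ (Q : Subgroup H), a * b = b * a) := by
  have key : ∀ v : V, v ∉ fixed V (Y : Subgroup H) → ¬ z ∣ (MulAction.stabilizer H v).index ∧
      ∀ Q : Sylow z (MulAction.stabilizer H v), (Q : Subgroup (MulAction.stabilizer H v)).Normal ∧
        ∀ a ∈ (Q : Subgroup (MulAction.stabilizer H v)),
          ∀ b ∈ (Q : Subgroup (MulAction.stabilizer H v)), a * b = b * a := by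
    intro v hv
    have hv0 : v ≠ 0 := by
      rintro rfl
      exact hv (zero_mem _)
    refine stab_of_cfg hH hc y hD hv0 ?_
    by_contra hcon
    exact hv (le_of_not_dvd Y hY _ hcon)
  refine ⟨uf_of_stab fun v hv => ⟨(key v hv).1, fun Q => ((key v hv).2 Q).1⟩, ?_⟩
  rintro ⟨v, hv⟩ Q
  exact comm_of_stab _ (key v hv).1 (fun Q => ((key v hv).2 Q).2) Q

theorem comm_of_cfg [Finite H] (hH : Group.IsSolvable H) {D : Set ℕ} {k : ℕ} (hc : Cfg D H V k)
    {z : ℕ} [hz : Fact z.Prime] (hD : ∀ e ∈ D, k ∣ e → z ∣ e → False) (hV : Nontrivial V)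
    (Q : Sylow z H) : ∀ a ∈ (Q : Subgroup H), ∀ b ∈ (Q : Subgroup H), a * b = b * a := by
  obtain ⟨v, hv⟩ := exists_ne (0 : V)
  have h := stab_of_cfg hH hc 1 (fun e he h1 _ h2 => hD e he h1 h2) (v := v) hv (one_dvd _)
  exact comm_of_stab _ h.1 (fun Q => (h.2 Q).2) Q

theorem uf_of_cfg [Finite H] (hH : Group.IsSolvable H) {D : Set ℕ} {k : ℕ} (hc : Cfg D H V k)
    {z : ℕ} [hz : Fact z.Prime] (hD : ∀ e ∈ D, k ∣ e → z ∣ e → False) :
    UF z H (⊥ : AddSubgroup V) := by
  refine uf_of_stab fun v hv => ?_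
  have h := stab_of_cfg hH hc 1 (fun e he h1 _ h2 => hD e he h1 h2) (v := v) hv (one_dvd _)
  exact ⟨h.1, fun Q => (h.2 Q).1⟩

/-! ### Counting -/

theorem card_fixed_smul [Finite V] {z : ℕ} (Q : Sylow z H) (g : H) :
    Nat.card (fixed V ((g • Q : Sylow z H) : Subgroup H)) = Nat.card (fixed V (Q : Subgroup H)) := by
  have key : ∀ (Q : Sylow z H) (g : H), Nat.card (fixed V (Q : Subgroup H)) ≤
      Nat.card (fixed V ((g • Q : Sylow z H) : Subgroup H)) := by
    intro Q g
    let f : fixed V (Q : Subgroup H) → fixed V ((g • Q : Sylow z H) : Subgroup H) :=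
      fun v => ⟨g • (v : V), fix_conj v.2 g⟩
    refine Nat.card_le_card_of_injective f ?_
    intro a b hab
    exact Subtype.ext (smul_left_cancel g (congrArg Subtype.val hab))
  refine le_antisymm ?_ (key Q g)
  have h := key (g • Q) g⁻¹
  rwa [inv_smul_smul] at h

/-- Each nonzero vector is fixed by exactly one Sylow subgroup. -/
theorem UF.card_mul [Finite H] [Finite V] {z : ℕ} [hz : Fact z.Prime]
    (h : UF z H (⊥ : AddSubgroup V)) (Q : Sylow z H) :
    Nat.card V - 1 = Nat.card (Sylow z H) * (Nat.card (fixed V (Q : Subgroup H)) - 1) := by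
  classical
  have h' : ∀ v : {v : V // v ≠ 0}, ∃! Q : Sylow z H, ∀ x ∈ (Q : Subgroup H), x • (v : V) = v :=
    fun v => h v (fun hv => v.2 hv)
  let f : {v : V // v ≠ 0} → Sylow z H := fun v => (h' v).choose
  have hf : ∀ v Q, f v = Q ↔ (v : V) ∈ fixed V (Q : Subgroup H) := by
    intro v Q
    have h1 := (h' v).choose_spec
    constructor
    · rintro rfl
      exact h1.1
    · intro hv
      exact (h1.2 Q hv).symm
  have hone : ∀ (W : AddSubgroup V), Nat.card {v : W // v ≠ 0} = Nat.card W - 1 := by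
    intro W
    haveI := Fintype.ofFinite W
    have h1 := Set.card_ne_eq (0 : W)
    rw [Nat.card_eq_fintype_card, Nat.card_eq_fintype_card]
    convert h1
  have hfib : ∀ Q' : Sylow z H, Nat.card {v // f v = Q'} = Nat.card (fixed V (Q : Subgroup H)) - 1 := by
    intro Q'
    obtain ⟨g, rfl⟩ := MulAction.exists_smul_eq H Q Q'
    rw [← card_fixed_smul Q g, ← hone]
    refine Nat.card_congr ?_
    exact
      { toFun := fun v => ⟨⟨v.1.1, (hf _ _).1 v.2⟩, fun h0 => v.1.2 (congrArg Subtype.val h0)⟩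
        invFun := fun v => ⟨⟨v.1.1, fun h0 => v.2 (Subtype.ext h0)⟩, (hf _ _).2 v.1.2⟩
        left_inv := fun v => rfl
        right_inv := fun v => rfl }
  have h2 : Nat.card {v : V // v ≠ 0} = Nat.card V - 1 := by
    haveI := Fintype.ofFinite V
    have h1 := Set.card_ne_eq (0 : V)
    rw [Nat.card_eq_fintype_card, Nat.card_eq_fintype_card]
    convert h1
  haveI : Fintype (Sylow z H) := Fintype.ofFinite _
  rw [← h2, ← Nat.card_congr (Equiv.sigmaFiberEquiv f), Nat.card_sigma]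
  simp only [hfib, Finset.sum_const, Finset.card_univ, smul_eq_mul, Nat.card_eq_fintype_card]

end

/-- A quotient `(p ^ a - 1) / (p ^ b - 1)` determines `a` and `b`. -/
theorem pow_unique {p a b c d : ℕ} (hp : 2 ≤ p) (hb : b < a) (hd : d < c) (hb0 : 0 < b) (hd0 : 0 < d)
    (h : (p ^ a - 1) * (p ^ d - 1) = (p ^ c - 1) * (p ^ b - 1)) : a = c ∧ b = d := by
  -- it suffices to show `b = d`
  have key : ∀ {a b c d : ℕ}, b < a → d < c → 0 < b → 0 < d →
      (p ^ a - 1) * (p ^ d - 1) = (p ^ c - 1) * (p ^ b - 1) → d < b → False := by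
    intro a b c d hb hd hb0 hd0 h hdb
    have e : ∀ n, 1 ≤ p ^ n := fun n => Nat.one_le_pow _ _ (by omega)
    zify [e a, e b, e c, e d] at h
    -- modulo `p ^ (d + 1)`
    have h1 : ((p : ℤ) ^ (d + 1)) ∣ (p : ℤ) ^ d := by
      have d1 : ((p : ℤ) ^ (d + 1)) ∣ (p : ℤ) ^ a := pow_dvd_pow _ (by omega)
      have d2 : ((p : ℤ) ^ (d + 1)) ∣ (p : ℤ) ^ b := pow_dvd_pow _ (by omega)
      have d3 : ((p : ℤ) ^ (d + 1)) ∣ (p : ℤ) ^ c := pow_dvd_pow _ (by omega)
      have h2 : (p : ℤ) ^ d = (p : ℤ) ^ a * ((p : ℤ) ^ d - 1) - (p : ℤ) ^ c * ((p : ℤ) ^ b - 1)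
        + (p : ℤ) ^ b := by linear_combination -h
      rw [h2]
      exact dvd_add (dvd_sub (Dvd.dvd.mul_right d1 _) (Dvd.dvd.mul_right d3 _)) d2
    have h2 : p ^ (d + 1) ∣ p ^ d := by exact_mod_cast h1
    have h3 := Nat.le_of_dvd (Nat.pow_pos (by omega)) h2
    have h4 : p ^ d < p ^ (d + 1) := Nat.pow_lt_pow_right (by omega) (Nat.lt_succ_self d)
    omega
  have hbd : b = d := by
    rcases lt_trichotomy b d with h1 | h1 | h1
    · exact (key hd hb hd0 hb0 h.symm h1).elim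
    · exact h1
    · exact (key hb hd hb0 hd0 h h1).elim
  subst hbd
  have h1 : 0 < p ^ b - 1 := by
    have : p ^ 0 < p ^ b := Nat.pow_lt_pow_right (by omega) hb0
    rw [pow_zero] at this
    omega
  have h2 := Nat.eq_of_mul_eq_mul_right h1 h
  have e : ∀ n, 1 ≤ p ^ n := fun n => Nat.one_le_pow _ _ (by omega)
  have h3 : p ^ a = p ^ c := by have := e a; have := e c; omega
  exact ⟨Nat.pow_right_injective hp h3, rfl⟩

/-! ### Invariant subgroups as modules -/

section

variable {H : Type u} {V : Type v} [Group H] [AddCommGroup V] [DistribMulAction H V]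

/-- An additive subgroup is invariant. -/
def Inv (H : Type u) {V : Type v} [Group H] [AddCommGroup V] [DistribMulAction H V]
    (Y : AddSubgroup V) : Prop := ∀ h : H, ∀ y ∈ Y, h • y ∈ Y

/-- An invariant additive subgroup as a module. -/
def Sub {Y : AddSubgroup V} (_ : Inv H Y) : Type v := Y

instance instSub {Y : AddSubgroup V} (hY : Inv H Y) : AddCommGroup (Sub hY) :=
  inferInstanceAs (AddCommGroup Y)

instance instSubAct {Y : AddSubgroup V} (hY : Inv H Y) : DistribMulAction H (Sub hY) where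
  smul h y := ⟨h • (y : Y).1, hY h _ (y : Y).2⟩
  one_smul _ := Subtype.ext (one_smul H _)
  mul_smul a b _ := Subtype.ext (mul_smul a b _)
  smul_zero a := Subtype.ext (smul_zero a)
  smul_add a _ _ := Subtype.ext (smul_add a _ _)

instance instSubFin [Finite V] {Y : AddSubgroup V} (hY : Inv H Y) : Finite (Sub hY) :=
  inferInstanceAs (Finite Y)

/-- The inclusion. -/
def Sub.val {Y : AddSubgroup V} {hY : Inv H Y} (y : Sub hY) : V := (y : Y).1

/-- Vectors of the submodule. -/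
def Sub.mk {Y : AddSubgroup V} (hY : Inv H Y) (v : V) (hv : v ∈ Y) : Sub hY := ⟨v, hv⟩

theorem Sub.mem {Y : AddSubgroup V} {hY : Inv H Y} (y : Sub hY) : y.val ∈ Y := (y : Y).2

theorem Sub.ext {Y : AddSubgroup V} {hY : Inv H Y} {x y : Sub hY} (h : x.val = y.val) : x = y :=
  Subtype.ext h

theorem Sub.val_zero {Y : AddSubgroup V} {hY : Inv H Y} : (0 : Sub hY).val = 0 := rfl

theorem Sub.card {Y : AddSubgroup V} (hY : Inv H Y) : Nat.card (Sub hY) = Nat.card Y := rfl

theorem Sub.smul_eq_iff {Y : AddSubgroup V} {hY : Inv H Y} (h : H) (y : Sub hY) :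
    h • y = y ↔ h • y.val = y.val :=
  ⟨fun e => congrArg Sub.val e, fun e => Sub.ext e⟩

theorem Sub.triv_iff {Y : AddSubgroup V} {hY : Inv H Y} {Z : Subgroup H} :
    Triv (Sub hY) Z ↔ ∀ z ∈ Z, ∀ y ∈ Y, z • y = y :=
  ⟨fun h z hz y hy => congrArg Sub.val (h z hz (Sub.mk hY y hy)), fun h z hz y =>
    Sub.ext (h z hz y.val y.mem)⟩

/-- Restriction to an invariant subgroup meeting `N` trivially. -/
theorem UF.sub {z : ℕ} {N Y : AddSubgroup V} (hY : Inv H Y) (h : UF z H N) (hNY : Y ⊓ N = ⊥) :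
    UF z H (⊥ : AddSubgroup (Sub hY)) := by
  intro y hy
  have hyN : y.val ∉ N := by
    intro h1
    apply hy
    have h2 : y.val ∈ Y ⊓ N := ⟨y.mem, h1⟩
    rw [hNY, AddSubgroup.mem_bot] at h2
    rw [AddSubgroup.mem_bot]
    exact Sub.ext h2
  obtain ⟨Q, hQ, hu⟩ := h _ hyN
  exact ⟨Q, fun x hx => Sub.ext (hQ x hx), fun Q' hQ' => hu Q' fun x hx => congrArg Sub.val (hQ' x hx)⟩

/-- The vectors fixed by a normal subgroup are invariant. -/
theorem inv_fixed (Z : Subgroup H) (hZ : Z.Normal) : Inv H (fixed V Z) := by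
  intro h y hy z hz
  have h1 := hy _ (hZ.conj_mem z hz h⁻¹)
  rw [inv_inv, mul_smul, mul_smul, inv_smul_eq_iff] at h1
  exact h1

theorem inv_com (Z : Subgroup H) (hZ : Z.Normal) : Inv H (com V Z) := by
  intro h y hy
  induction hy using AddSubgroup.closure_induction with
  | mem x hx =>
    obtain ⟨z, hz, v, rfl⟩ := hx
    apply AddSubgroup.subset_closure
    refine ⟨h * z * h⁻¹, hZ.conj_mem z hz h, h • v, ?_⟩
    rw [smul_sub, mul_smul, inv_smul_smul, mul_smul]
  | zero => rw [smul_zero]; exact zero_mem _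
  | add x y _ _ hx hy => rw [smul_add]; exact add_mem hx hy
  | neg x _ hx => rw [smul_neg]; exact neg_mem hx

theorem com_eq_bot_iff {Z : Subgroup H} : com V Z = ⊥ ↔ Triv V Z := by
  rw [com, AddSubgroup.closure_eq_bot_iff]
  constructor
  · intro h z hz v
    have h1 : z • v - v ∈ ({0} : Set V) := h ⟨z, hz, v, rfl⟩
    exact sub_eq_zero.1 h1
  · rintro h _ ⟨z, hz, v, rfl⟩
    rw [h z hz v, sub_self]
    exact Set.mem_singleton _

/-- Coprime action on a module: the two summands. -/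
theorem fixed_inf_com [Finite H] [Finite V] (Z : Subgroup H)
    (hcop : (Nat.card Z).Coprime (Nat.card V)) : com V Z ⊓ fixed V Z = ⊥ := by
  classical
  haveI := Fintype.ofFinite Z
  -- the trace
  let tr : V →+ V := ∑ z : Z, DistribSMul.toAddMonoidHom V (z : H)
  have htr : ∀ v, tr v = ∑ z : Z, (z : H) • v := by
    intro v
    rw [AddMonoidHom.finsetSum_apply]
    rfl
  have h1 : ∀ v ∈ com V Z, tr v = 0 := by
    intro v hv
    induction hv using AddSubgroup.closure_induction with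
    | mem x hx =>
      obtain ⟨z, hz, v, rfl⟩ := hx
      rw [map_sub, htr, htr, sub_eq_zero]
      exact Fintype.sum_equiv (Equiv.mulRight (⟨z, hz⟩ : Z)) _ _ (fun w => by
        change (w : H) • z • v = ((w : H) * z) • v
        rw [mul_smul])
    | zero => exact map_zero _
    | add x y _ _ hx hy => rw [map_add, hx, hy, add_zero]
    | neg x _ hx => rw [map_neg, hx, neg_zero]
  have h2 : ∀ v ∈ fixed V Z, tr v = Nat.card Z • v := by
    intro v hv
    rw [htr, Finset.sum_congr rfl (fun (z : Z) _ => hv (z : H) z.2), Finset.sum_const,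
      Finset.card_univ, Nat.card_eq_fintype_card]
  rw [eq_bot_iff]
  rintro v ⟨hv1, hv2⟩
  have h3 : Nat.card Z • v = 0 := by rw [← h2 v hv2, h1 v hv1]
  have h4 : addOrderOf v ∣ Nat.gcd (Nat.card Z) (Nat.card V) :=
    Nat.dvd_gcd (addOrderOf_dvd_of_nsmul_eq_zero h3) (addOrderOf_dvd_natCard v)
  rw [hcop, Nat.dvd_one, AddMonoid.addOrderOf_eq_one_iff] at h4
  exact h4

theorem com_sup_fixed [Finite H] [Finite V] (Z : Subgroup H)
    (hcop : (Nat.card Z).Coprime (Nat.card V)) (v : V) :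
    ∃ a ∈ com V Z, ∃ b ∈ fixed V Z, v = a + b := by
  classical
  haveI := Fintype.ofFinite Z
  -- `k |Z| v = v`
  obtain ⟨k, hk⟩ : ∃ k : ℕ, Nat.card Z • (k • v) = v := by
    have h1 : (Nat.card Z).Coprime (addOrderOf v) := hcop.coprime_dvd_right (addOrderOf_dvd_natCard v)
    obtain ⟨k, hk⟩ := exists_nsmul_eq_self_of_coprime (n := Nat.card Z) (x := v) h1
    refine ⟨k, ?_⟩
    rw [smul_comm]
    exact hk
  set w := k • v with hw
  refine ⟨v - ∑ z : Z, (z : H) • w, ?_, ∑ z : Z, (z : H) • w, ?_, by abel⟩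
  · have h1 : v - ∑ z : Z, (z : H) • w = ∑ z : Z, (w - (z : H) • w) := by
      rw [Finset.sum_sub_distrib, Finset.sum_const, Finset.card_univ, ← Nat.card_eq_fintype_card, hk]
    rw [h1]
    refine sum_mem fun z _ => ?_
    rw [← neg_sub]
    exact neg_mem (AddSubgroup.subset_closure ⟨z, z.2, w, rfl⟩)
  · intro z hz
    rw [Finset.smul_sum]
    exact Fintype.sum_equiv (Equiv.mulLeft (⟨z, hz⟩ : Z)) _ _ (fun x => by
      change z • (x : H) • w = (z * (x : H)) • w
      rw [mul_smul])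

/-- If each vector outside the invariant subgroup `N` is fixed by exactly one Sylow subgroup, and `N` has a
nonzero invariant complement, the Sylow subgroups act trivially on `N`. -/
theorem UF.triv_of_compl [Finite H] {z : ℕ} [Fact z.Prime] {N Y : AddSubgroup V} (h : UF z H N)
    (hN : Inv H N) (hY : Inv H Y) (hNY : Y ⊓ N = ⊥) (hY0 : Y ≠ ⊥) (Q : Sylow z H) :
    ∀ x ∈ (Q : Subgroup H), ∀ v ∈ N, x • v = v := by
  -- for `y ∈ Y`, `y ≠ 0`, the Sylow subgroup fixing `y` fixes `N`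
  obtain ⟨y, hy, hy0⟩ := (AddSubgroup.bot_or_exists_ne_zero Y).resolve_left hY0
  have hyN : ∀ n ∈ N, y + n ∉ N := by
    intro n hn h1
    have h2 : y ∈ N := by
      have := sub_mem h1 hn
      rwa [add_sub_cancel_right] at this
    have h3 : y ∈ Y ⊓ N := ⟨hy, h2⟩
    rw [hNY, AddSubgroup.mem_bot] at h3
    exact hy0 h3
  obtain ⟨Q0, hQ0, hu⟩ := h y (by have := hyN 0 (zero_mem _); rwa [add_zero] at this)
  have h0 : ∀ x ∈ (Q0 : Subgroup H), ∀ n ∈ N, x • n = n := by
    intro x hx n hn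
    obtain ⟨Q1, hQ1, -⟩ := h _ (hyN n hn)
    have hsplit : ∀ x ∈ (Q1 : Subgroup H), x • y = y ∧ x • n = n := by
      intro x hx
      have h1 := hQ1 x hx
      rw [smul_add] at h1
      have h2 : x • y - y = n - x • n := by
        rw [sub_eq_sub_iff_add_eq_add, h1, add_comm]
      have h3 : x • y - y ∈ Y ⊓ N := AddSubgroup.mem_inf.2
        ⟨sub_mem (hY x y hy) hy, by rw [h2]; exact sub_mem hn (hN x n hn)⟩
      have h4 : x • y - y = 0 := by rwa [hNY, AddSubgroup.mem_bot] at h3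
      refine ⟨sub_eq_zero.1 h4, ?_⟩
      rw [h4] at h2
      exact (sub_eq_zero.1 h2.symm).symm
    have h5 : Q1 = Q0 := hu Q1 (fun x hx => (hsplit x hx).1)
    rw [← h5] at hx
    exact (hsplit x hx).2
  obtain ⟨g, rfl⟩ := MulAction.exists_smul_eq H Q0 Q
  intro x hx v hv
  have h1 := h0 _ (mem_smul_sylow.1 hx) (g⁻¹ • v) (hN _ _ hv)
  rw [mul_smul, mul_smul, smul_inv_smul, inv_smul_eq_iff, smul_inv_smul] at h1
  exact h1

end

/-! ### Consequences of the counting -/

section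

variable {H : Type u} {V : Type v} {V' : Type w} [Group H] [AddCommGroup V] [DistribMulAction H V]
  [AddCommGroup V'] [DistribMulAction H V'] [Finite H] [Finite V] [Finite V']

omit [Finite H] in
theorem exists_card_fixed {p n : ℕ} (hp : p.Prime) (hV : Nat.card V = p ^ n) (Y : AddSubgroup V) :
    ∃ m ≤ n, Nat.card Y = p ^ m := by
  have h := Y.card_addSubgroup_dvd_card
  rw [hV] at h
  obtain ⟨m, hm, h⟩ := (Nat.dvd_prime_pow hp).1 h
  exact ⟨m, hm, h⟩

/-- The parameters of a module with the unique fixing property. -/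
theorem UF.params {z p n : ℕ} [hz : Fact z.Prime] (hp : p.Prime) (h : UF z H (⊥ : AddSubgroup V))
    (hV : Nat.card V = p ^ n) (hn : 0 < n) (Q : Sylow z H) (hQ : Nat.card (Sylow z H) ≠ 1) :
    ∃ m, 0 < m ∧ m < n ∧ Nat.card (fixed V (Q : Subgroup H)) = p ^ m ∧
      p ^ n - 1 = Nat.card (Sylow z H) * (p ^ m - 1) := by
  obtain ⟨m, hm, hc⟩ := exists_card_fixed hp hV (fixed V (Q : Subgroup H))
  have h1 := h.card_mul Q
  rw [hV, hc] at h1
  have h2 : 1 < p ^ n := Nat.one_lt_pow hn.ne' hp.one_lt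
  refine ⟨m, ?_, lt_of_le_of_ne hm ?_, hc, h1⟩
  · rcases Nat.eq_zero_or_pos m with h0 | h0
    · rw [h0, pow_zero, Nat.sub_self, Nat.mul_zero] at h1
      omega
    · exact h0
  · rintro rfl
    apply hQ
    have h3 : 0 < p ^ m - 1 := by omega
    exact Nat.eq_of_mul_eq_mul_right h3 (by rw [one_mul]; exact h1.symm)

/-- A Sylow subgroup acting nontrivially is not the only one. -/
theorem UF.card_ne_one {z : ℕ} [hz : Fact z.Prime] (h : UF z H (⊥ : AddSubgroup V))
    {Q : Sylow z H} (hQ : ¬ Triv V (Q : Subgroup H)) : Nat.card (Sylow z H) ≠ 1 := by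
  intro h1
  apply hQ
  have : Subsingleton (Sylow z H) := (Nat.card_eq_one_iff_unique.1 h1).1
  intro x hx v
  by_cases hv : v = 0
  · rw [hv, smul_zero]
  · obtain ⟨Q', hQ', -⟩ := h v hv
    rw [Subsingleton.elim Q Q'] at hx
    exact hQ' x hx

theorem UF.not_triv {z : ℕ} [hz : Fact z.Prime] (h : UF z H (⊥ : AddSubgroup V)) [Nontrivial V]
    (hQ : Nat.card (Sylow z H) ≠ 1) (Q : Sylow z H) : ¬ Triv V (Q : Subgroup H) := by
  intro ht
  apply hQ
  have hn := h.normal_of_triv (by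
    obtain ⟨v, hv⟩ := exists_ne (0 : V)
    intro h1
    exact hv ((h1 ▸ AddSubgroup.mem_top v : v ∈ (⊥ : AddSubgroup V)))) ht
  have : Subsingleton (Sylow z H) := (Sylow.unique_of_normal Q hn).instSubsingleton
  exact Nat.card_eq_one_iff_unique.2 ⟨this, ⟨Q⟩⟩

theorem UF.card_eq {z p a c : ℕ} [hz : Fact z.Prime] (hp : p.Prime)
    (h : UF z H (⊥ : AddSubgroup V)) (h' : UF z H (⊥ : AddSubgroup V')) (hV : Nat.card V = p ^ a)
    (hV' : Nat.card V' = p ^ c) (ha : 0 < a) (hc : 0 < c) (hQ : Nat.card (Sylow z H) ≠ 1) :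
    a = c := by
  obtain ⟨Q⟩ : Nonempty (Sylow z H) := inferInstance
  obtain ⟨m, hm0, hm, -, e1⟩ := h.params hp hV ha Q hQ
  obtain ⟨l, hl0, hl, -, e2⟩ := h'.params hp hV' hc Q hQ
  refine (pow_unique hp.two_le hm hl hm0 hl0 ?_).1
  rw [e1, e2]
  ring

/-- The unique fixing property implies irreducibility. -/
theorem UF.irr {z p n : ℕ} [hz : Fact z.Prime] (hp : p.Prime) (h : UF z H (⊥ : AddSubgroup V))
    (hV : Nat.card V = p ^ n) {Q : Sylow z H} (hQ : ¬ Triv V (Q : Subgroup H)) : Irr H V := by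
  intro Y hY
  by_cases hY0 : Y = ⊥
  · exact Or.inl hY0
  right
  obtain ⟨a, ha, hc⟩ := exists_card_fixed hp hV Y
  have ha0 : 0 < a := by
    rcases Nat.eq_zero_or_pos a with h0 | h0
    · rw [h0, pow_zero, AddSubgroup.card_eq_one] at hc
      exact absurd hc hY0
    · exact h0
  have hI : Inv H Y := hY
  have hu : UF z H (⊥ : AddSubgroup (Sub hI)) := h.sub hI (by rw [inf_bot_eq])
  have := UF.card_eq hp h hu hV hc (by omega) ha0 (h.card_ne_one hQ)
  apply AddSubgroup.eq_top_of_card_eq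
  rw [hc, hV, this]

end

end Cfsg.Agent.H670.Palfy

private theorem dce_9ded1555d9c9 : _root_.True := by
  try have : _root_.True := by simp only [_root_.Cfsg.Agent.H670.Palfy.com.eq_1]
  exact _root_.True.intro
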